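import Cfsg.Agent.H664.Eight.Base
import Cfsg.Agent.H187.Scheme.HN
import Cfsg.Agent.H399.Two.HN
import Cfsg.Agent.H596.Degree

/-!
# S4899: the row of the Harada-Norton group (helper235)

The permutation character of degree 1539000 is the sum of eight characters of which at most one is reducible; the degree
`12749 = 11 * 19 * 61` does not divide the order; so `1, 16929, 267520, 653125, 365750, 214016, 8910` are degrees, as is
`133`.
-/

set_option autoImplicit false

namespace Cfsg.Agent.H235.Eight.HN

open Cfsg Subgroup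
open Cfsg.Agent.H664.Eight

universe u

theorem eight_HN : Eight Cfsg.Spor.HN := by
  have hcard : Nat.card Cfsg.Spor.HN = 273030912000000 := H492.IMHN.card_hn
  have hfin : Finite Cfsg.Spor.HN := Nat.finite_of_card_ne_zero (by rw [hcard]; norm_num)
  obtain ⟨χ, -, h1, -, h2⟩ := Cfsg.Agent.H187.Scheme.HN.chars
  have hno : ¬ IsIrrCharacter Cfsg.Spor.HN (χ 1) := by
    intro hi
    have h3 : χ 1 1 = (12749 : ℕ) := h1 1
    have h4 := Cfsg.Agent.H596.charDegree_dvd_card hi
    have h5 : charDegree (χ 1) = 12749 := Cfsg.Agent.Blocks.Basic.charDegree_of_eq h3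
    rw [h5, hcard] at h4
    exact absurd h4 (by norm_num)
  have key : ∀ s : Fin 8, s ≠ 1 → Cfsg.Agent.H187.Scheme.HN.nn s ∈ charDegrees Cfsg.Spor.HN := by
    intro s hs
    have hi : IsIrrCharacter Cfsg.Spor.HN (χ s) := (h2 s 1 hs).resolve_right hno
    exact ⟨⟨χ s, hi⟩, Cfsg.Agent.Blocks.Basic.charDegree_of_eq (h1 s)⟩
  obtain ⟨χ', hχ'⟩ := H399.Two.HN.deg_of H399.Two.HN.exists_133
  refine eight_of_list [1, 133, 16929, 267520, 653125, 365750, 214016, 8910] (by decide) (by decide) ?_
  intro d hd
  simp only [List.mem_cons, List.not_mem_nil, or_false] at hd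
  rcases hd with rfl | rfl | rfl | rfl | rfl | rfl | rfl | rfl
  · exact one_mem
  · exact ⟨χ', hχ'⟩
  · exact key 2 (by decide)
  · exact key 3 (by decide)
  · exact key 4 (by decide)
  · exact key 5 (by decide)
  · exact key 6 (by decide)
  · exact key 7 (by decide)

/-- **The row of the Harada-Norton group.** -/
theorem row {S : Type u} [Group S] (h : Spor.IsoHN S) : Eight S := by
  obtain ⟨e⟩ := h
  exact eight_HN.of_equiv e

end Cfsg.Agent.H235.Eight.HN
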