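import Cfsg.Agent.H664.Eight.CertON
import Cfsg.Agent.H680.PBON
import Cfsg.Agent.H210.On7.Loc

/-!
# S4899: the row of the O'Nan group (helper235)
-/

set_option autoImplicit false

namespace Cfsg.Agent.H235.Eight.ON

open Cfsg Subgroup
open Cfsg.Agent.H664.Eight
open Cfsg.Agent.KFacts.ON.Cent (hON finite_ON)
open Cfsg.Agent.H474.ONC

universe u

theorem eight_ON : Eight Cfsg.Spor.ON := by
  have := finite_ON
  have hs : IsSimpleGroup Cfsg.Spor.ON := hON.1
  refine H664.Eight.CertON.eight card_ON ?_ ?_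
  · intro pk h
    simp only [List.mem_cons, List.not_mem_nil, or_false] at h
    rcases h with rfl | rfl | rfl
    · obtain ⟨y, h1, h2⟩ := H680.PBON.exists_31
      exact ⟨y, h1, h2⟩
    · obtain ⟨y, h1, h2, -⟩ := H680.PBON.real_nineteen
      exact ⟨y, h1, h2⟩
    · obtain ⟨y, h1, h2, -⟩ := H680.PBON.real_eleven
      exact ⟨y, h1, h2⟩
  · intro d h
    simp only [List.mem_cons, List.not_mem_nil, or_false] at h
    subst h
    obtain ⟨χ, hχ⟩ := H210.On7.exists_charDegree
    exact ⟨χ, hχ⟩

/-- **The row of the O'Nan group.** -/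
theorem row {S : Type u} [Group S] (h : Spor.IsoON S) : Eight S := by
  obtain ⟨e⟩ := h
  exact eight_ON.of_equiv e

end Cfsg.Agent.H235.Eight.ON
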