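import Cfsg.Agent.H664.Eight.Base
import Cfsg.Agent.H669.Dl.Th
import Cfsg.Agent.H596.Degree
import Cfsg.Agent.H653.Sieve.Main

/-!
# S4899: the row of the Thompson group (helper235)

The degrees `30875, 61256, 4881384, 28861000, 51684750` are known; if there is at most one more, then the column of an
element of order 19 (rational, `|C(x)| = 19`) gives a contradiction.
-/

set_option autoImplicit false

namespace Cfsg.Agent.H235.Eight.Th

open Cfsg Subgroup
open scoped ComplexConjugate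
open Cfsg.Agent.H664.Eight Cfsg.Agent.Characters.Core

universe u

/-- the known degrees of value 0 -/
def Z : List ℕ := [30875, 61256, 28861000, 51684750]

/-- the check -/
def chk : Bool :=
  (List.range 19).all fun b => (List.range 19).all fun c => (List.range 9).all fun w =>
    let W : ℤ := (w : ℤ) - 4
    (c * W ^ 2 != 18 - (b : ℤ)) || (c * W == 0) || (4881384 * (b : ℤ) - 1) % (c * W) != 0 ||
      90745943887872000 % ((4881384 * (b : ℤ) - 1) / (c * W)) != 0

theorem chk_true : chk = true := by decide +kernel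

theorem arith (b c d : ℕ) (w : ℤ) (hb : b < 19) (hb0 : b ≠ 0) (hw : -4 ≤ w ∧ w ≤ 4) (h1 : 1 + (b : ℤ) + c * w ^ 2 = 19)
    (h2 : 1 + b * (-4881384) + c * (d * w) = (0 : ℤ)) (hd : d ∣ 90745943887872000) : False := by
  have hcw : (c : ℤ) * w ≠ 0 := by
    intro h
    have h3 : (c : ℤ) * (d * w) = 0 := by
      rw [show (c : ℤ) * (d * w) = d * (c * w) by ring, h, mul_zero]
    rw [h3] at h2
    omega
  have hw0 : w ≠ 0 := fun h => hcw (by rw [h, mul_zero])
  have hw2 : 1 ≤ w ^ 2 := by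
    have : 0 < w ^ 2 := by positivity
    omega
  have hc : c < 19 := by
    by_contra hc
    push Not at hc
    have h3 : (19 : ℤ) * 1 ≤ c * w ^ 2 := mul_le_mul (by exact_mod_cast hc) hw2 (by norm_num) (by positivity)
    omega
  have h := chk_true
  unfold chk at h
  simp only [List.all_eq_true, List.mem_range] at h
  have h3 := h b hb c hc (w + 4).toNat (by omega)
  have h4 : (((w + 4).toNat : ℕ) : ℤ) - 4 = w := by omega
  simp only [h4] at h3
  have h5 : 4881384 * (b : ℤ) - 1 = c * w * d := by linear_combination -h2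
  rw [h5] at h3
  simp only [Bool.or_eq_true, bne_iff_ne, beq_iff_eq, ne_eq] at h3
  rcases h3 with ((h3 | h3) | h3) | h3
  · exact h3 (by linear_combination h1)
  · exact hcw h3
  · exact h3 (Int.mul_emod_right _ _)
  · rw [Int.mul_ediv_cancel_left _ hcw] at h3
    refine h3 (Int.emod_eq_zero_of_dvd ?_)
    exact_mod_cast hd

theorem count {ι : Type*} [Fintype ι] (D : ι → ℕ) (v : ι → ℤ) (t : ι) (h1 : ∀ χ, D χ = 1 ↔ χ = t)
    (hv : ∀ χ, (19 : ℤ) ∣ v χ - D χ) (hb : ∀ χ, v χ ^ 2 ≤ 19) (hs : ∑ χ, v χ ^ 2 = 19)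
    (hz : ∑ χ, (D χ : ℤ) * v χ = 0) (hN : ∀ χ, D χ ∣ 90745943887872000) (d : ℕ)
    (hd : ∀ χ, D χ = 1 ∨ D χ = 4881384 ∨ D χ ∈ Z ∨ D χ = d) (hex : ∃ χ, D χ = 4881384) : False := by
  classical
  have hb' : ∀ χ, -4 ≤ v χ ∧ v χ ≤ 4 := fun χ => ⟨by nlinarith [hb χ], by nlinarith [hb χ]⟩
  obtain ⟨E, hE⟩ : ∃ E : ι → Prop, ∀ χ, E χ ↔ (D χ = d ∧ d ≠ 1 ∧ d ≠ 4881384 ∧ d ∉ Z) := ⟨_, fun _ => Iff.rfl⟩
  obtain ⟨w, hw, hwE⟩ : ∃ w : ℤ, (-4 ≤ w ∧ w ≤ 4) ∧ ∀ χ, E χ → v χ = w := by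
    by_cases he : ∃ χ, E χ
    · obtain ⟨χ, hχ⟩ := he
      refine ⟨v χ, hb' χ, fun ψ hψ => ?_⟩
      have h2 := hv χ
      have h3 := hv ψ
      rw [((hE χ).1 hχ).1] at h2
      rw [((hE ψ).1 hψ).1] at h3
      obtain ⟨h4, h5⟩ := hb' χ
      obtain ⟨h6, h7⟩ := hb' ψ
      omega
    · exact ⟨0, by norm_num, fun χ hχ => absurd ⟨χ, hχ⟩ he⟩
  have hA : ∀ χ, D χ = 1 → v χ = 1 := by
    intro χ h
    have h2 := hv χ
    rw [h] at h2
    obtain ⟨h4, h5⟩ := hb' χ
    omega
  have hB : ∀ χ, D χ = 4881384 → v χ = -1 := by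
    intro χ h
    have h2 := hv χ
    rw [h] at h2
    obtain ⟨h4, h5⟩ := hb' χ
    omega
  have hC : ∀ χ, D χ ∈ Z → v χ = 0 := by
    intro χ h
    have h2 := hv χ
    obtain ⟨h4, h5⟩ := hb' χ
    simp only [Z, List.mem_cons, List.not_mem_nil, or_false] at h
    rcases h with h | h | h | h <;> (rw [h] at h2; omega)
  have hcases : ∀ χ, (D χ = 1 ∧ v χ = 1 ∧ ¬ E χ) ∨ (D χ = 4881384 ∧ v χ = -1 ∧ ¬ E χ) ∨
      (D χ ≠ 1 ∧ D χ ≠ 4881384 ∧ v χ = 0 ∧ ¬ E χ) ∨ (D χ ≠ 1 ∧ D χ ≠ 4881384 ∧ v χ = w ∧ E χ ∧ D χ = d) := by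
    intro χ
    by_cases a1 : D χ = 1
    · exact Or.inl ⟨a1, hA χ a1, fun e => ((hE χ).1 e).2.1 (((hE χ).1 e).1.symm.trans a1)⟩
    by_cases a2 : D χ = 4881384
    · exact Or.inr (Or.inl ⟨a2, hB χ a2, fun e => ((hE χ).1 e).2.2.1 (((hE χ).1 e).1.symm.trans a2)⟩)
    by_cases a3 : D χ ∈ Z
    · exact Or.inr (Or.inr (Or.inl ⟨a1, a2, hC χ a3, fun e => ((hE χ).1 e).2.2.2 (by rw [← ((hE χ).1 e).1]; exact a3)⟩))
    · have h4 : D χ = d := (((hd χ).resolve_left a1).resolve_left a2).resolve_left a3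
      have h5 : E χ := (hE χ).2 ⟨h4, by rwa [← h4], by rwa [← h4], by rwa [← h4]⟩
      exact Or.inr (Or.inr (Or.inr ⟨a1, a2, hwE χ h5, h5, h4⟩))
  have k1 : ∀ χ, v χ ^ 2 = (if D χ = 1 then 1 else 0) + (if D χ = 4881384 then 1 else 0) + (if E χ then w ^ 2 else 0) := by
    intro χ
    rcases hcases χ with ⟨a, b, c⟩ | ⟨a, b, c⟩ | ⟨a, a', b, c⟩ | ⟨a, a', b, c, -⟩
    · rw [b, a, if_neg c]; norm_num
    · rw [b, a, if_neg c]; norm_num
    · rw [b, if_neg a, if_neg a', if_neg c]; norm_num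
    · rw [b, if_neg a, if_neg a', if_pos c]; norm_num
  have k2 : ∀ χ, (D χ : ℤ) * v χ = (if D χ = 1 then 1 else 0) + (if D χ = 4881384 then (-4881384) else 0) +
      (if E χ then (d * w : ℤ) else 0) := by
    intro χ
    rcases hcases χ with ⟨a, b, c⟩ | ⟨a, b, c⟩ | ⟨a, a', b, c⟩ | ⟨a, a', b, c, e⟩
    · rw [b, a, if_neg c]; norm_num
    · rw [b, a, if_neg c]; norm_num
    · rw [b, if_neg a, if_neg a', if_neg c]; norm_num
    · rw [b, if_neg a, if_neg a', if_pos c, e]; norm_num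
  rw [Finset.sum_congr rfl fun χ _ => k1 χ] at hs
  rw [Finset.sum_congr rfl fun χ _ => k2 χ] at hz
  simp only [Finset.sum_add_distrib, Finset.sum_ite, Finset.sum_const, Finset.sum_const_zero, add_zero,
    nsmul_eq_mul] at hs hz
  have hone : (Finset.univ.filter fun χ => D χ = 1).card = 1 := by
    rw [Finset.card_eq_one]
    refine ⟨t, ?_⟩
    ext χ
    rw [Finset.mem_filter, Finset.mem_singleton]
    exact ⟨fun h => (h1 χ).1 h.2, fun h => ⟨Finset.mem_univ _, (h1 χ).2 h⟩⟩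
  rw [hone] at hs hz
  set B := (Finset.univ.filter fun χ => D χ = 4881384).card with hBdef
  set C := (Finset.univ.filter fun χ => E χ).card with hCdef
  have hB0 : B ≠ 0 := by
    obtain ⟨χ, hχ⟩ := hex
    exact Finset.card_ne_zero_of_mem (Finset.mem_filter.2 ⟨Finset.mem_univ χ, hχ⟩)
  have hBlt : B < 19 := by
    have h3 : (0 : ℤ) ≤ C * w ^ 2 := by positivity
    push_cast at hs
    omega
  have hN' : C ≠ 0 → d ∣ 90745943887872000 := by
    intro h
    obtain ⟨χ, hχ⟩ := Finset.card_pos.1 (Nat.pos_of_ne_zero h)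
    rw [← ((hE χ).1 (Finset.mem_filter.1 hχ).2).1]
    exact hN χ
  by_cases hC0 : C = 0
  · rw [hC0] at hz
    push_cast at hz
    omega
  · exact arith B C d w hBlt hB0 hw (by push_cast at hs; linear_combination hs) (by push_cast at hz; linear_combination hz)
      (hN' hC0)

theorem eight_Th : Eight Cfsg.Spor.Th := by
  classical
  have hcard : Nat.card Cfsg.Spor.Th = 90745943887872000 := Cfsg.Agent.H723.Spor.Th.card_th
  have hfin : Finite Cfsg.Spor.Th := Nat.finite_of_card_ne_zero (by rw [hcard]; norm_num)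
  have hs : IsSimpleGroup Cfsg.Spor.Th := Cfsg.Agent.S1700.result.1
  have := Fintype.ofFinite Cfsg.Spor.Th
  have hfi : Finite (IrrCharacter Cfsg.Spor.Th) := finite_irr
  have := Fintype.ofFinite (IrrCharacter Cfsg.Spor.Th)
  by_contra hno
  unfold Eight at hno
  push Not at hno
  -- at most one more degree
  let K : Finset ℕ := {1, 30875, 61256, 4881384, 28861000, 51684750}
  obtain ⟨m1, m2, m3⟩ := H669.Dl.Th.mem
  obtain ⟨m4, m5⟩ := H859.Two.mem_Th
  have hK : ∀ d ∈ K, d ∈ charDegrees Cfsg.Spor.Th := by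
    intro d hd
    simp only [K, Finset.mem_insert, Finset.mem_singleton] at hd
    rcases hd with rfl | rfl | rfl | rfl | rfl | rfl
    · exact one_mem
    · exact m5
    · exact m4
    · exact m2
    · exact m3
    · exact m1
  have hKc : K.card = 6 := by decide
  obtain ⟨d, hd⟩ : ∃ d : ℕ, ∀ e ∈ charDegrees Cfsg.Spor.Th, e ∈ K ∨ e = d := by
    by_cases he : ∃ d ∈ charDegrees Cfsg.Spor.Th, d ∉ K
    · obtain ⟨d, hd, hdK⟩ := he
      refine ⟨d, fun e he => ?_⟩
      by_contra hc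
      push Not at hc
      have h1 := card_le_ncard (S := Cfsg.Spor.Th) (insert e (insert d K)) (by
        intro a ha
        rw [Finset.mem_insert, Finset.mem_insert] at ha
        rcases ha with rfl | rfl | ha
        · exact he
        · exact hd
        · exact hK a ha)
      rw [Finset.card_insert_of_notMem, Finset.card_insert_of_notMem hdK, hKc] at h1
      · omega
      · rw [Finset.mem_insert]
        rintro (h | h)
        · exact hc.2 h
        · exact hc.1 h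
    · push Not at he
      exact ⟨1, fun e h => Or.inl (he e h)⟩
  choose v hv hv1 hv2 using H669.Dl.Th.value
  let x := H669.Dl.Th.x
  have hx1 : x ≠ 1 := by
    intro h
    have h2 := H669.Dl.Th.x_order
    rw [show H669.Dl.Th.x = 1 from h, orderOf_one] at h2
    omega
  have hD : ∀ χ : IrrCharacter Cfsg.Spor.Th, (χ : Cfsg.Spor.Th → ℂ) 1 = (charDegree (χ : Cfsg.Spor.Th → ℂ) : ℕ) :=
    fun χ => Cfsg.Agent.Blocks.Basic.irr_one_eq_charDegree χ.2
  refine count (fun χ : IrrCharacter Cfsg.Spor.Th => charDegree (χ : Cfsg.Spor.Th → ℂ)) v ⟨1, isIrr_one⟩ ?_ hv1 hv2 ?_ ?_ ?_ d ?_ ?_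
  · intro χ
    constructor
    · intro h
      exact Subtype.ext (H653.Sieve.one_of_deg (by rw [hcard]; norm_num) χ h)
    · rintro rfl
      show charDegree (1 : Cfsg.Spor.Th → ℂ) = 1
      unfold charDegree
      simp
  · have h := S0145.sum_irr_mul_conj x x
    rw [if_pos (IsConj.refl _), H669.Dl.Th.card_cent] at h
    have h2 : ∀ χ : IrrCharacter Cfsg.Spor.Th, (χ : Cfsg.Spor.Th → ℂ) x * conj ((χ : Cfsg.Spor.Th → ℂ) x) =
        ((v χ ^ 2 : ℤ) : ℂ) := by
      intro χ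
      rw [show (χ : Cfsg.Spor.Th → ℂ) x = v χ from hv χ]
      simp [pow_two]
    rw [Finset.sum_congr rfl fun χ _ => h2 χ, ← Int.cast_sum] at h
    exact_mod_cast h
  · have h := S0145.sum_irr_mul_conj x (1 : Cfsg.Spor.Th)
    rw [if_neg (by rw [isConj_comm, isConj_one_right]; exact hx1)] at h
    have h2 : ∀ χ : IrrCharacter Cfsg.Spor.Th, (χ : Cfsg.Spor.Th → ℂ) x * conj ((χ : Cfsg.Spor.Th → ℂ) 1) =
        (((charDegree (χ : Cfsg.Spor.Th → ℂ) : ℤ) * v χ : ℤ) : ℂ) := by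
      intro χ
      rw [show (χ : Cfsg.Spor.Th → ℂ) x = v χ from hv χ, hD χ]
      simp [mul_comm]
    rw [Finset.sum_congr rfl fun χ _ => h2 χ, ← Int.cast_sum] at h
    exact_mod_cast h
  · intro χ
    rw [← hcard]
    exact H596.charDegree_dvd_card χ.2
  · intro χ
    rcases hd _ ⟨χ, rfl⟩ with h | h
    · simp only [K, Finset.mem_insert, Finset.mem_singleton] at h
      simp only [Z, List.mem_cons, List.not_mem_nil, or_false]
      tauto
    · exact Or.inr (Or.inr (Or.inr h))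
  · exact m2

/-- **The row of the Thompson group.** -/
theorem row {S : Type u} [Group S] (h : Spor.IsoTh S) : Eight S := by
  obtain ⟨e⟩ := h
  exact eight_Th.of_equiv e

end Cfsg.Agent.H235.Eight.Th
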